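import Groth.Agent.DegreeEtLib.Bound
import Groth.Agent.S5985
import Groth.Prelude.Def_Hens2

/-!
# Finite parts over elementary etale neighbourhoods
-/

set_option autoImplicit false
set_option linter.style.haveILetI false
set_option backward.isDefEq.respectTransparency false
set_option backward.isDefEq.respectTransparency.types false
set_option maxHeartbeats 800000
universe u

open AlgebraicGeometry CategoryTheory CategoryTheory.Limits TopologicalSpace

noncomputable section

namespace GrpdNbhd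

/-- Over a point with trivial residue extension the fibres of a base change agree. -/
theorem fibre_bij {X Y P U : Scheme.{u}} (f : X ⟶ Y) (q : P ⟶ U) (g : U ⟶ Y) (a : P ⟶ X) (sq : IsPullback a q f g)
    (w : U) (hg : Function.Bijective (g.residueFieldMap w)) :
    Set.BijOn a (q ⁻¹' {w}) (f ⁻¹' {g w}) := by
  haveI : IsIso (Spec.map (g.residueFieldMap w)) := by
    haveI : IsIso (g.residueFieldMap w) := (ConcreteCategory.isIso_iff_bijective _).2 hg
    infer_instance
  have big : IsPullback (q.fiberι w ≫ a) (q.fiberToSpecResidueField w) f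
      (Spec.map (g.residueFieldMap w) ≫ Y.fromSpecResidueField (g w)) := by
    rw [Scheme.Hom.SpecMap_residueFieldMap_fromSpecResidueField]
    exact IsPullback.paste_horiz (IsPullback.of_hasPullback q (U.fromSpecResidueField w)) sq
  let l : q.fiber w ⟶ f.fiber (g w) := pullback.lift (q.fiberι w ≫ a)
    (q.fiberToSpecResidueField w ≫ Spec.map (g.residueFieldMap w)) (by rw [Category.assoc]; exact big.w)
  have hl : l ≫ f.fiberι (g w) = q.fiberι w ≫ a := pullback.lift_fst _ _ _
  rw [← hl] at big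
  have left := IsPullback.of_right big (pullback.lift_snd _ _ _) (IsPullback.of_hasPullback f (Y.fromSpecResidueField (g w)))
  haveI : IsIso l := left.isIso_fst_of_isIso
  have hq : ∀ z, q.fiberι w z ∈ q ⁻¹' {w} := fun z => by rw [← Scheme.Hom.range_fiberι]; exact ⟨z, rfl⟩
  have hlift : ∀ x ∈ q ⁻¹' {w}, ∃ z, q.fiberι w z = x := fun x hx => by
    have : x ∈ Set.range (q.fiberι w) := by rw [Scheme.Hom.range_fiberι]; exact hx
    exact this
  have hval : ∀ z, a (q.fiberι w z) = f.fiberι (g w) (l z) := fun z => by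
    rw [← Scheme.Hom.comp_apply, ← hl, Scheme.Hom.comp_apply]
  refine ⟨fun x hx => ?_, fun x hx x' hx' h => ?_, fun x hx => ?_⟩
  · show f (a x) = g w
    rw [← Scheme.Hom.comp_apply, sq.w, Scheme.Hom.comp_apply, show q x = w from hx]
  · obtain ⟨z, rfl⟩ := hlift x hx
    obtain ⟨z', rfl⟩ := hlift x' hx'
    rw [hval, hval] at h
    rw [l.homeomorph.injective ((f.fiberι (g w)).isEmbedding.injective h)]
  · have : x ∈ Set.range (f.fiberι (g w)) := by rw [Scheme.Hom.range_fiberι]; exact hx
    obtain ⟨z, rfl⟩ := this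
    obtain ⟨z', rfl⟩ := l.homeomorph.surjective z
    exact ⟨q.fiberι w z', hq z', hval z'⟩

/-- A clopen part of a base change, finite over the base, with prescribed fibre over a point. -/
structure IsPart {X S S' : Scheme.{u}} (f : X ⟶ S) (g : S' ⟶ S) (p' : S') (W : Set X)
    (V : (pullback f g).Opens) : Prop where
  closed : IsClosed (V : Set ↥(pullback f g))
  fin : IsFinite (V.ι ≫ pullback.snd f g)
  fibre : ∀ x : ↥(pullback f g), pullback.snd f g x = p' → (x ∈ V ↔ pullback.fst f g x ∈ W)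

/-- The map of base changes along a morphism of neighbourhoods. -/
def refineMap {X S S' S'' : Scheme.{u}} (f : X ⟶ S) {g : S' ⟶ S} {h : S'' ⟶ S'} {g' : S'' ⟶ S}
    (w : h ≫ g = g') : pullback f g' ⟶ pullback f g :=
  pullback.lift (pullback.fst f g') (pullback.snd f g' ≫ h) (by rw [Category.assoc, w]; exact pullback.condition)

theorem refineMap_fst {X S S' S'' : Scheme.{u}} (f : X ⟶ S) {g : S' ⟶ S} {h : S'' ⟶ S'} {g' : S'' ⟶ S}
    (w : h ≫ g = g') : refineMap f w ≫ pullback.fst f g = pullback.fst f g' := pullback.lift_fst _ _ _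

theorem refineMap_snd {X S S' S'' : Scheme.{u}} (f : X ⟶ S) {g : S' ⟶ S} {h : S'' ⟶ S'} {g' : S'' ⟶ S}
    (w : h ≫ g = g') : refineMap f w ≫ pullback.snd f g = pullback.snd f g' ≫ h := pullback.lift_snd _ _ _

theorem refineMap_isPullback {X S S' S'' : Scheme.{u}} (f : X ⟶ S) {g : S' ⟶ S} {h : S'' ⟶ S'} {g' : S'' ⟶ S}
    (w : h ≫ g = g') : IsPullback (refineMap f w) (pullback.snd f g') (pullback.snd f g) h := by
  subst w
  have big : IsPullback (refineMap f (rfl : h ≫ g = h ≫ g) ≫ pullback.fst f g) (pullback.snd f (h ≫ g)) f (h ≫ g) := by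
    rw [refineMap_fst]; exact IsPullback.of_hasPullback f (h ≫ g)
  exact IsPullback.of_right big (refineMap_snd _ _) (IsPullback.of_hasPullback f g)

theorem IsPart.refine {X S S' S'' : Scheme.{u}} {f : X ⟶ S} {g : S' ⟶ S} {p' : S'} {W : Set X}
    {V : (pullback f g).Opens} (hV : IsPart f g p' W V) {h : S'' ⟶ S'} {g' : S'' ⟶ S} (w : h ≫ g = g')
    {p'' : S''} (hp : h p'' = p') : IsPart f g' p'' W (refineMap f w ⁻¹ᵁ V) := by
  refine ⟨hV.closed.preimage (refineMap f w).continuous, ?_, fun x hx => ?_⟩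
  · haveI := hV.fin
    have h3 := IsPullback.paste_vert (isPullback_morphismRestrict (refineMap f w) V) (refineMap_isPullback f w)
    exact MorphismProperty.of_isPullback (P := @IsFinite) h3 inferInstance
  · have h1 : pullback.snd f g (refineMap f w x) = p' := by
      rw [← Scheme.Hom.comp_apply, refineMap_snd, Scheme.Hom.comp_apply, hx, hp]
    rw [Scheme.Hom.mem_preimage, hV.fibre _ h1, ← Scheme.Hom.comp_apply, refineMap_fst]

/-- A finite open piece of a fibre spreads to a finite clopen part over an elementary etale neighbourhood. -/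
theorem exists_part {X S : Scheme.{u}} (f : X ⟶ S) [LocallyOfFiniteType f] [IsSeparated f] (p : S) (W : X.Opens)
    (hW : ((W : Set X) ∩ f ⁻¹' {p}).Finite) :
    ∃ (S' : Scheme.{u}) (g : S' ⟶ S) (p' : S') (_ : Hens2.IsEtaleNbhd g p' p) (V : (pullback f g).Opens),
      IsPart f g p' (W : Set X) V := by
  obtain ⟨S', g, p', hg, hp, hres, V, V', hVV', hfin, hmem⟩ := Groth.Agent.S5985.result (W.ι ≫ f) p (by
    refine Set.Finite.of_finite_image (f := W.ι) (hW.subset ?_) W.ι.isOpenEmbedding.injective.injOn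
    rintro _ ⟨x, hx, rfl⟩
    exact ⟨x.2, hx⟩)
  have hres' : Function.Bijective (g.residueFieldMap p') := (ConcreteCategory.isIso_iff_bijective _).1 hres
  let m : pullback (W.ι ≫ f) g ⟶ pullback f g :=
    pullback.lift (pullback.fst _ _ ≫ W.ι) (pullback.snd _ _) (by rw [Category.assoc]; exact pullback.condition)
  have hm1 : m ≫ pullback.fst f g = pullback.fst _ _ ≫ W.ι := pullback.lift_fst _ _ _
  have hm2 : m ≫ pullback.snd f g = pullback.snd _ _ := pullback.lift_snd _ _ _
  have hsq : IsPullback (pullback.fst (W.ι ≫ f) g) m W.ι (pullback.fst f g) := by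
    have big : IsPullback (pullback.fst (W.ι ≫ f) g) (m ≫ pullback.snd f g) (W.ι ≫ f) g := by
      rw [hm2]; exact IsPullback.of_hasPullback _ _
    exact IsPullback.of_bot big hm1.symm (IsPullback.of_hasPullback f g)
  haveI : IsOpenImmersion m := MorphismProperty.of_isPullback (P := @IsOpenImmersion) hsq inferInstance
  haveI : IsOpenImmersion (V.ι ≫ m) := inferInstance
  let V₁ : (pullback f g).Opens := (V.ι ≫ m).opensRange
  haveI : IsFinite ((V.ι ≫ m) ≫ pullback.snd f g) := by rw [Category.assoc, hm2]; exact hfin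
  haveI : IsFinite (V₁.ι ≫ pullback.snd f g) := by
    rw [show V₁.ι = (V.ι ≫ m).isoOpensRange.inv ≫ (V.ι ≫ m) from (Scheme.Hom.isoOpensRange_inv_comp _).symm,
      Category.assoc]
    infer_instance
  haveI : IsProper V₁.ι := IsProper.of_comp V₁.ι (pullback.snd f g)
  refine ⟨S', g, p', ⟨hg, hp, hres'⟩, V₁, by simpa using V₁.ι.isClosedMap.isClosed_range, inferInstance, fun x hx => ?_⟩
  have hbij := fibre_bij f (pullback.snd f g) g (pullback.fst f g) (IsPullback.of_hasPullback f g) p' hres'
  constructor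
  · rintro ⟨z, rfl⟩
    rw [← Scheme.Hom.comp_apply, Category.assoc, hm1, ← Category.assoc, Scheme.Hom.comp_apply]
    exact ((V.ι ≫ pullback.fst (W.ι ≫ f) g) z).2
  · intro hxW
    have hfx : (W.ι ≫ f) ⟨_, hxW⟩ = g p' := hbij.mapsTo hx
    obtain ⟨z, hz1, hz2⟩ := Scheme.Pullback.exists_preimage_pullback (f := W.ι ≫ f) (g := g) ⟨_, hxW⟩ p' hfx
    have hmz : m z = x := by
      refine hbij.injOn ?_ hx ?_
      · show pullback.snd f g (m z) = p'
        rw [← Scheme.Hom.comp_apply, hm2, hz2]
      · rw [← Scheme.Hom.comp_apply, hm1, Scheme.Hom.comp_apply, hz1]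
        rfl
    exact ⟨⟨z, hmem z hz2⟩, hmz⟩

/-- Two elementary etale neighbourhoods have a common refinement. -/
theorem exists_common {S S₁ S₂ : Scheme.{u}} {g₁ : S₁ ⟶ S} {g₂ : S₂ ⟶ S} {p : S} {p₁ : S₁} {p₂ : S₂}
    (h₁ : Hens2.IsEtaleNbhd g₁ p₁ p) (h₂ : Hens2.IsEtaleNbhd g₂ p₂ p) :
    ∃ p₃ : ↥(pullback g₁ g₂), pullback.fst g₁ g₂ p₃ = p₁ ∧ pullback.snd g₁ g₂ p₃ = p₂ ∧
      Hens2.IsEtaleNbhd (pullback.fst g₁ g₂ ≫ g₁) p₃ p := by
  haveI := h₁.etale
  haveI := h₂.etale
  have e2 : g₂ p₂ = p := h₂.base_eq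
  have e1 : g₁ p₁ = p := h₁.base_eq
  obtain ⟨p₃, hp1, hp2⟩ := Scheme.Pullback.exists_preimage_pullback (f := g₁) (g := g₂) p₁ p₂ (e1.trans e2.symm)
  refine ⟨p₃, hp1, hp2, inferInstance, ?_, ?_⟩
  · show (pullback.fst g₁ g₂ ≫ g₁) p₃ = p
    rw [Scheme.Hom.comp_apply, hp1, e1]
  · -- the fibre of the first projection over `p₁` is a single point with trivial residue field
    have sq := (IsPullback.of_hasPullback g₁ g₂).flip
    have big : IsPullback ((pullback.fst g₁ g₂).fiberι p₁ ≫ pullback.snd g₁ g₂)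
        ((pullback.fst g₁ g₂).fiberToSpecResidueField p₁) g₂
        (Spec.map (g₁.residueFieldMap p₁) ≫ S.fromSpecResidueField (g₁ p₁)) := by
      rw [Scheme.Hom.SpecMap_residueFieldMap_fromSpecResidueField]
      exact IsPullback.paste_horiz (IsPullback.of_hasPullback (pullback.fst g₁ g₂) (S₁.fromSpecResidueField p₁)) sq
    haveI : IsIso (g₁.residueFieldMap p₁) := (ConcreteCategory.isIso_iff_bijective _).2 h₁.residue_bijective
    haveI : IsPreimmersion (Spec.map (g₁.residueFieldMap p₁) ≫ S.fromSpecResidueField (g₁ p₁)) := inferInstance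
    haveI : IsPreimmersion ((pullback.fst g₁ g₂).fiberι p₁ ≫ pullback.snd g₁ g₂) :=
      MorphismProperty.of_isPullback (P := @IsPreimmersion) big.flip inferInstance
    obtain ⟨z, hz⟩ : p₃ ∈ Set.range ((pullback.fst g₁ g₂).fiberι p₁) := by
      rw [Scheme.Hom.range_fiberι]; exact hp1
    subst hz
    have hb2 : Function.Bijective ((pullback.snd g₁ g₂).residueFieldMap ((pullback.fst g₁ g₂).fiberι p₁ z)).hom := by
      refine DegreeEt.bij_first _ (((pullback.fst g₁ g₂).fiberι p₁).residueFieldMap z) ?_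
        (DimIneqLib.bijective_residueFieldMap _ _)
      rw [← Scheme.residueFieldMap_comp]
      exact DimIneqLib.bijective_residueFieldMap _ _
    subst hp2
    show Function.Bijective ((pullback.fst g₁ g₂ ≫ g₁).residueFieldMap _).hom
    refine DegreeEt.bij_congr (pullback.condition (f := g₁) (g := g₂)) _ ?_
    rw [Scheme.residueFieldMap_comp, CommRingCat.hom_comp, RingHom.coe_comp]
    exact hb2.comp h₂.residue_bijective

/-- The base point of a composite neighbourhood. -/
theorem nbhd_restrict {S S' : Scheme.{u}} {g : S' ⟶ S} {p : S} {p' : S'} (hg : Hens2.IsEtaleNbhd g p' p)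
    (O : S'.Opens) (hO : p' ∈ O) : Hens2.IsEtaleNbhd (O.ι ≫ g) (⟨p', hO⟩ : (O : Scheme.{u})) p := by
  haveI := hg.etale
  refine ⟨inferInstance, (Scheme.Hom.comp_apply _ _ _).trans hg.base_eq, ?_⟩
  show Function.Bijective ((O.ι ≫ g).residueFieldMap _).hom
  rw [Scheme.residueFieldMap_comp, CommRingCat.hom_comp, RingHom.coe_comp]
  exact (DimIneqLib.bijective_residueFieldMap O.ι (⟨p', hO⟩ : (O : Scheme.{u}))).comp hg.residue_bijective

end GrpdNbhd
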