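import Groth.Agent.GrpdNbhdLib.Basic
import Groth.Prelude.Def_Grpd

/-!
# Finite restriction of a groupoid scheme over an elementary etale neighbourhood
-/

set_option autoImplicit false
set_option linter.style.haveILetI false
set_option backward.isDefEq.respectTransparency false
set_option backward.isDefEq.respectTransparency.types false
set_option maxHeartbeats 800000
universe u

open AlgebraicGeometry CategoryTheory CategoryTheory.Limits TopologicalSpace

noncomputable section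

namespace GrpdNbhd

/-- Finite fibres are preserved by base change along a point. -/
theorem finite_preimage_of_isPullback {X Y P U : Scheme.{u}} (f : X ⟶ Y) [LocallyOfFiniteType f] (q : P ⟶ U)
    (g : U ⟶ Y) (a : P ⟶ X) (sq : IsPullback a q f g) (w : U) (h : (f ⁻¹' {g w}).Finite) :
    (q ⁻¹' {w}).Finite := by
  haveI := DegreeEt.isFinite_fiber f (g w) h
  have big : IsPullback (q.fiberι w ≫ a) (q.fiberToSpecResidueField w) f
      (Spec.map (g.residueFieldMap w) ≫ Y.fromSpecResidueField (g w)) := by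
    rw [Scheme.Hom.SpecMap_residueFieldMap_fromSpecResidueField]
    exact IsPullback.paste_horiz (IsPullback.of_hasPullback q (U.fromSpecResidueField w)) sq
  let l : q.fiber w ⟶ f.fiber (g w) := pullback.lift (q.fiberι w ≫ a)
    (q.fiberToSpecResidueField w ≫ Spec.map (g.residueFieldMap w)) (by rw [Category.assoc]; exact big.w)
  have hl : l ≫ f.fiberι (g w) = q.fiberι w ≫ a := pullback.lift_fst _ _ _
  rw [← hl] at big
  have left := IsPullback.of_right big (pullback.lift_snd _ _ _) (IsPullback.of_hasPullback f (Y.fromSpecResidueField (g w)))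
  haveI : IsFinite (q.fiberToSpecResidueField w) := MorphismProperty.of_isPullback (P := @IsFinite) left ‹_›
  haveI : IsLocallyArtinian (Spec (U.residueField w)) :=
    Scheme.isLocallyArtinianScheme_Spec.mpr (inferInstanceAs (IsArtinianRing (U.residueField w)))
  haveI : IsLocallyArtinian (q.fiber w) := IsLocallyArtinian.of_locallyQuasiFinite (q.fiberToSpecResidueField w)
  haveI : CompactSpace ↥(q.fiber w) := QuasiCompact.compactSpace_of_compactSpace (q.fiberToSpecResidueField w)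
  haveI : Finite ↥(q.fiber w) := finite_of_compact_of_discrete
  rw [← Scheme.Hom.range_fiberι]
  exact Set.finite_range _

variable {S : Scheme.{u}} (G : Grpd.GroupoidScheme S)

/-- Composable pairs as pairs with a common source. -/
def pairMap : pullback G.s G.t ⟶ pullback G.s G.s :=
  pullback.lift G.c (pullback.snd G.s G.t) (by
    have h := G.comp_s (pullback.fst G.s G.t) (pullback.snd G.s G.t) pullback.condition
    rwa [pullback.lift_fst_snd, Category.id_comp] at h)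

theorem lift_congr {X Y Z T : Scheme.{u}} {f : X ⟶ Z} {g : Y ⟶ Z} {a a' : T ⟶ X} {b b' : T ⟶ Y}
    (h : a ≫ f = b ≫ g) (h' : a' ≫ f = b' ≫ g) (ha : a = a') (hb : b = b') :
    pullback.lift a b h = pullback.lift a' b' h' := by
  subst ha; subst hb; rfl

theorem pairMap_injective : Function.Injective (pairMap G) := by
  let γ := pullback.fst G.s G.s
  let β := pullback.snd G.s G.s
  have hγ : γ ≫ G.s = (β ≫ G.i) ≫ G.t := by rw [Category.assoc, G.i_t]; exact pullback.condition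
  have hψ : (pullback.lift γ (β ≫ G.i) hγ ≫ G.c) ≫ G.s = β ≫ G.t := by
    rw [G.comp_s γ (β ≫ G.i) hγ, Category.assoc, G.i_s]
  let ψ : pullback G.s G.s ⟶ pullback G.s G.t := pullback.lift (pullback.lift γ (β ≫ G.i) hγ ≫ G.c) β hψ
  have hid : pairMap G ≫ ψ = 𝟙 _ := by
    let a := pullback.fst G.s G.t
    let b := pullback.snd G.s G.t
    have hab : a ≫ G.s = b ≫ G.t := pullback.condition
    have e1 : pairMap G ≫ γ = pullback.lift a b hab ≫ G.c := by
      rw [show pullback.lift a b hab = 𝟙 _ from pullback.lift_fst_snd _ _, Category.id_comp]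
      exact pullback.lift_fst _ _ _
    have e2 : pairMap G ≫ β = b := pullback.lift_snd _ _ _
    have hbi : b ≫ G.s = (b ≫ G.i) ≫ G.t := by rw [Category.assoc, G.i_t]
    have h3 : (pullback.lift a b hab ≫ G.c) ≫ G.s = (b ≫ G.i) ≫ G.t := (G.comp_s a b hab).trans hbi
    apply pullback.hom_ext
    · rw [Category.id_comp, Category.assoc, pullback.lift_fst, ← Category.assoc]
      have e3 : pairMap G ≫ pullback.lift γ (β ≫ G.i) hγ =
          pullback.lift (pullback.lift a b hab ≫ G.c) (b ≫ G.i) h3 := by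
        apply pullback.hom_ext
        · rw [Category.assoc, pullback.lift_fst, pullback.lift_fst, e1]
        · rw [Category.assoc, pullback.lift_snd, pullback.lift_snd, ← Category.assoc, e2]
      rw [e3, G.assoc a b (b ≫ G.i) hab hbi]
      have h4 : a ≫ G.s = (a ≫ G.s ≫ G.e) ≫ G.t := by
        rw [Category.assoc, Category.assoc, G.e_t, Category.comp_id]
      refine Eq.trans ?_ (G.comp_e a)
      refine congrArg (· ≫ G.c) (lift_congr _ h4 rfl ?_)
      rw [G.comp_i b, ← Category.assoc b, ← hab, Category.assoc]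
    · rw [Category.id_comp, Category.assoc, pullback.lift_snd, e2]
  intro x y h
  have := congrArg ψ h
  rwa [← Scheme.Hom.comp_apply, ← Scheme.Hom.comp_apply, hid] at this

/-- The points mapping by `s` to the orbit of `u`. -/
theorem orbit_facts [LocallyOfFiniteType G.s] (u : G.U) (hfin : (G.s ⁻¹' {u}).Finite) :
    (G.s ⁻¹' (G.t '' (G.s ⁻¹' {u}))).Finite ∧
      G.t '' (G.s ⁻¹' (G.t '' (G.s ⁻¹' {u}))) = G.t '' (G.s ⁻¹' {u}) ∧ u ∈ G.t '' (G.s ⁻¹' {u}) := by
  have hu : u ∈ G.t '' (G.s ⁻¹' {u}) := by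
    refine ⟨G.e u, ?_, ?_⟩
    · show G.s (G.e u) = u
      rw [← Scheme.Hom.comp_apply, G.e_s]; rfl
    · rw [← Scheme.Hom.comp_apply, G.e_t]; rfl
  have hcs : ∀ z : ↥(pullback G.s G.t), G.s (G.c z) = G.s (pullback.snd G.s G.t z) := fun z => by
    have h := G.comp_s (pullback.fst G.s G.t) (pullback.snd G.s G.t) pullback.condition
    rw [pullback.lift_fst_snd, Category.id_comp] at h
    rw [← Scheme.Hom.comp_apply, ← Scheme.Hom.comp_apply, h]
  have hct : ∀ z : ↥(pullback G.s G.t), G.t (G.c z) = G.t (pullback.fst G.s G.t z) := fun z => by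
    have h := G.comp_t (pullback.fst G.s G.t) (pullback.snd G.s G.t) pullback.condition
    rw [pullback.lift_fst_snd, Category.id_comp] at h
    rw [← Scheme.Hom.comp_apply, ← Scheme.Hom.comp_apply, h]
  refine ⟨?_, ?_, hu⟩
  · have hsub : G.s ⁻¹' (G.t '' (G.s ⁻¹' {u})) ⊆
        ⋃ r ∈ G.s ⁻¹' {u}, pullback.fst G.s G.t '' (pullback.snd G.s G.t ⁻¹' {r}) := by
      rintro r' ⟨r, hr, he⟩
      obtain ⟨z, hz1, hz2⟩ := Scheme.Pullback.exists_preimage_pullback (f := G.s) (g := G.t) r' r he.symm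
      exact Set.mem_iUnion₂.2 ⟨r, hr, z, hz2, hz1⟩
    refine (hfin.biUnion fun r hr => Set.Finite.image _ ?_).subset hsub
    have h1 : (pullback.snd G.s G.s ⁻¹' {r}).Finite :=
      finite_preimage_of_isPullback G.s (pullback.snd G.s G.s) G.s _ (IsPullback.of_hasPullback G.s G.s) r
        (by rw [show G.s r = u from hr]; exact hfin)
    refine Set.Finite.of_finite_image (h1.subset ?_) (pairMap_injective G).injOn
    rintro _ ⟨z, hz, rfl⟩
    show pullback.snd G.s G.s (pairMap G z) = r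
    rw [← Scheme.Hom.comp_apply, pairMap, pullback.lift_snd]
    exact hz
  · refine subset_antisymm ?_ (Set.image_mono fun r hr => ?_)
    · rintro _ ⟨r', ⟨r, hr, he⟩, rfl⟩
      obtain ⟨z, hz1, hz2⟩ := Scheme.Pullback.exists_preimage_pullback (f := G.s) (g := G.t) r' r he.symm
      refine ⟨G.c z, ?_, ?_⟩
      · show G.s (G.c z) = u
        rw [hcs, hz2]; exact hr
      · rw [hct, hz1]
    · show G.s r ∈ G.t '' (G.s ⁻¹' {u})
      rw [show G.s r = u from hr]; exact hu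

/-- The base change of source or target. -/
abbrev bcMap {S' : Scheme.{u}} (g : S' ⟶ S) (a : G.R ⟶ G.U) (ha : a ≫ G.pU = G.pR) :
    pullback G.pR g ⟶ pullback G.pU g :=
  pullback.map G.pR g G.pU g a (𝟙 S') (𝟙 S) ((Category.comp_id _).trans ha.symm)
    ((Category.comp_id _).trans (Category.id_comp _).symm)

theorem bcMap_fst {S' : Scheme.{u}} (g : S' ⟶ S) (a : G.R ⟶ G.U) (ha : a ≫ G.pU = G.pR) :
    bcMap G g a ha ≫ pullback.fst G.pU g = pullback.fst G.pR g ≫ a := pullback.lift_fst _ _ _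

theorem bcMap_snd {S' : Scheme.{u}} (g : S' ⟶ S) (a : G.R ⟶ G.U) (ha : a ≫ G.pU = G.pR) :
    bcMap G g a ha ≫ pullback.snd G.pU g = pullback.snd G.pR g := by
  simp [bcMap]

theorem bcMap_refine {S' S'' : Scheme.{u}} {g : S' ⟶ S} {h : S'' ⟶ S'} {g' : S'' ⟶ S} (w : h ≫ g = g')
    (a : G.R ⟶ G.U) (ha : a ≫ G.pU = G.pR) :
    bcMap G g' a ha ≫ refineMap G.pU w = refineMap G.pR w ≫ bcMap G g a ha := by
  apply pullback.hom_ext
  · rw [Category.assoc, refineMap_fst, bcMap_fst, Category.assoc, bcMap_fst, ← Category.assoc, refineMap_fst]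
  · rw [Category.assoc, refineMap_snd, ← Category.assoc, bcMap_snd, Category.assoc, bcMap_snd, refineMap_snd]

/-- The finite restriction of a groupoid over an elementary etale neighbourhood. -/
theorem exists_restriction (p : S) (u : G.U) (hu : G.pU u = p) [LocallyOfFiniteType G.pU] [IsSeparated G.pU]
    [IsSeparated G.pR] [Flat G.s] [LocallyOfFinitePresentation G.s] [Flat G.t] [LocallyOfFinitePresentation G.t]
    (hqf : ∃ V : G.U.Opens, u ∈ V ∧ ∀ x ∈ V, G.pU x = p → x = u) (hfin : (G.s ⁻¹' {u}).Finite) :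
    ∃ (S' : Scheme.{u}) (g : S' ⟶ S) (p' : S') (_ : Hens2.IsEtaleNbhd g p' p) (U' : (pullback G.pU g).Opens)
      (R' : (pullback G.pR g).Opens),
      IsClosed (U' : Set ↥(pullback G.pU g)) ∧ IsClosed (R' : Set ↥(pullback G.pR g)) ∧
      (∃ u' : ↥(pullback G.pU g), u' ∈ U' ∧ pullback.fst G.pU g u' = u ∧ pullback.snd G.pU g u' = p') ∧
      (∀ u' : ↥(pullback G.pU g), u' ∈ U' → pullback.fst G.pU g u' = u → pullback.snd G.pU g u' = p' →
        {x : ↥(pullback G.pU g) | x ∈ U' ∧ pullback.snd G.pU g x = p'} =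
          bcMap G g G.t G.t_over '' (bcMap G g G.s G.s_over ⁻¹' {u'})) ∧
      {r : ↥(pullback G.pR g) | r ∈ R' ∧ pullback.snd G.pR g r = p'} =
        bcMap G g G.s G.s_over ⁻¹' {x | x ∈ U' ∧ pullback.snd G.pU g x = p'} ∧
      IsFinite (U'.ι ≫ pullback.snd G.pU g) ∧ IsFinite (R'.ι ≫ pullback.snd G.pR g) ∧
      bcMap G g G.s G.s_over '' (R' : Set ↥(pullback G.pR g)) ⊆ U' ∧
      bcMap G g G.t G.t_over '' (R' : Set ↥(pullback G.pR g)) ⊆ U' ∧
      (UniversallyClosed G.j → (R' : Set ↥(pullback G.pR g)) =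
        bcMap G g G.s G.s_over ⁻¹' (U' : Set ↥(pullback G.pU g)) ∩
          bcMap G g G.t G.t_over ⁻¹' (U' : Set ↥(pullback G.pU g))) := by
  haveI : LocallyOfFiniteType G.pR := by rw [← G.s_over]; infer_instance
  have hsp : ∀ r, G.pR r = G.pU (G.s r) := fun r => by rw [← Scheme.Hom.comp_apply, G.s_over]
  have htp : ∀ r, G.pR r = G.pU (G.t r) := fun r => by rw [← Scheme.Hom.comp_apply, G.t_over]
  obtain ⟨hF1, hF2, hF3⟩ := orbit_facts G u hfin
  obtain ⟨V, huV, hV⟩ := hqf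
  set E : Set G.U := G.t '' (G.s ⁻¹' {u}) with hE
  let WU : G.U.Opens := ⟨G.t '' (G.s ⁻¹' (V : Set G.U)), G.t.isOpenMap _ (V.2.preimage G.s.continuous)⟩
  let WR : G.R.Opens := ⟨G.s ⁻¹' (WU : Set G.U), WU.2.preimage G.s.continuous⟩
  have hWU : (WU : Set G.U) ∩ G.pU ⁻¹' {p} = E := by
    ext x
    constructor
    · rintro ⟨⟨r, hr, rfl⟩, hx⟩
      exact ⟨r, hV _ hr (by rw [← hsp, htp]; exact hx), rfl⟩
    · rintro ⟨r, hr, rfl⟩
      refine ⟨⟨r, ?_, rfl⟩, ?_⟩
      · show G.s r ∈ V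
        rw [show G.s r = u from hr]; exact huV
      · show G.pU (G.t r) = p
        rw [← htp, hsp, show G.s r = u from hr, hu]
  have hWR : (WR : Set G.R) ∩ G.pR ⁻¹' {p} = G.s ⁻¹' E := by
    ext r
    rw [← hWU]
    simp only [Set.mem_inter_iff, Set.mem_preimage, Set.mem_singleton_iff, hsp]
    exact Iff.rfl
  obtain ⟨S₁, g₁, p₁, hg₁, U₁, hU₁⟩ := exists_part G.pU p WU (by rw [hWU]; exact hfin.image _)
  obtain ⟨S₂, g₂, p₂, hg₂, R₂, hR₂⟩ := exists_part G.pR p WR (by rw [hWR]; exact hF1)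
  obtain ⟨p₃, hp31, hp32, hg₃⟩ := exists_common hg₁ hg₂
  let g₃ : pullback g₁ g₂ ⟶ S := pullback.fst g₁ g₂ ≫ g₁
  let U₃ := refineMap G.pU (g' := g₃) (h := pullback.fst g₁ g₂) (g := g₁) rfl ⁻¹ᵁ U₁
  let R₃ := refineMap G.pR (g' := g₃) (h := pullback.snd g₁ g₂) (g := g₂) pullback.condition.symm ⁻¹ᵁ R₂
  have hU₃ : IsPart G.pU g₃ p₃ (WU : Set G.U) U₃ := hU₁.refine rfl hp31
  have hR₃ : IsPart G.pR g₃ p₃ (WR : Set G.R) R₃ := hR₂.refine pullback.condition.symm hp32
  have hgp : g₃ p₃ = p := hg₃.base_eq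
  -- membership on the special fibre
  have fU : ∀ x, pullback.snd G.pU g₃ x = p₃ → (x ∈ U₃ ↔ pullback.fst G.pU g₃ x ∈ E) := fun x hx => by
    rw [hU₃.fibre x hx, ← hWU]
    have hxp : G.pU (pullback.fst G.pU g₃ x) = p := by
      rw [← Scheme.Hom.comp_apply, pullback.condition, Scheme.Hom.comp_apply, hx, hgp]
    exact ⟨fun h => ⟨h, hxp⟩, fun h => h.1⟩
  have fR : ∀ x, pullback.snd G.pR g₃ x = p₃ → (x ∈ R₃ ↔ G.s (pullback.fst G.pR g₃ x) ∈ E) := fun x hx => by
    rw [hR₃.fibre x hx]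
    have hxp : G.pR (pullback.fst G.pR g₃ x) = p := by
      rw [← Scheme.Hom.comp_apply, pullback.condition, Scheme.Hom.comp_apply, hx, hgp]
    have h := Set.ext_iff.1 hWR (pullback.fst G.pR g₃ x)
    exact ⟨fun h' => h.1 ⟨h', hxp⟩, fun h' => (h.2 h').1⟩
  let s₃ := bcMap G g₃ G.s G.s_over
  let t₃ := bcMap G g₃ G.t G.t_over
  have hs₃ : ∀ x, pullback.fst G.pU g₃ (s₃ x) = G.s (pullback.fst G.pR g₃ x) := fun x => by
    rw [← Scheme.Hom.comp_apply, bcMap_fst, Scheme.Hom.comp_apply]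
  have ht₃ : ∀ x, pullback.fst G.pU g₃ (t₃ x) = G.t (pullback.fst G.pR g₃ x) := fun x => by
    rw [← Scheme.Hom.comp_apply, bcMap_fst, Scheme.Hom.comp_apply]
  have hs₃' : ∀ x, pullback.snd G.pU g₃ (s₃ x) = pullback.snd G.pR g₃ x := fun x => by
    rw [← Scheme.Hom.comp_apply, bcMap_snd]
  have ht₃' : ∀ x, pullback.snd G.pU g₃ (t₃ x) = pullback.snd G.pR g₃ x := fun x => by
    rw [← Scheme.Hom.comp_apply, bcMap_snd]
  -- the bad loci
  let A : Set ↥(pullback G.pR g₃) := (R₃ : Set _) ∩ ((s₃ ⁻¹' (U₃ : Set _))ᶜ ∪ (t₃ ⁻¹' (U₃ : Set _))ᶜ)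
  let B : Set ↥(pullback G.pR g₃) := ((s₃ ⁻¹' (U₃ : Set _)) ∩ (t₃ ⁻¹' (U₃ : Set _))) \ (R₃ : Set _)
  have hA : IsClosed A := hR₃.closed.inter
    ((U₃.2.preimage s₃.continuous).isClosed_compl.union (U₃.2.preimage t₃.continuous).isClosed_compl)
  have hB : IsClosed B := ((hU₃.closed.preimage s₃.continuous).inter (hU₃.closed.preimage t₃.continuous)).sdiff R₃.2
  have hAimg : IsClosed (pullback.snd G.pR g₃ '' A) := by
    haveI := hR₃.fin
    have e : pullback.snd G.pR g₃ '' A = (R₃.ι ≫ pullback.snd G.pR g₃) '' (R₃.ι ⁻¹' A) := by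
      ext x
      constructor
      · rintro ⟨c, hc, rfl⟩; exact ⟨⟨c, hc.1⟩, hc, rfl⟩
      · rintro ⟨c, hc, rfl⟩; exact ⟨_, hc, rfl⟩
    rw [e]
    exact (R₃.ι ≫ pullback.snd G.pR g₃).isClosedMap _ (hA.preimage R₃.ι.continuous)
  have hpA : p₃ ∉ pullback.snd G.pR g₃ '' A := by
    rintro ⟨x, ⟨hxR, hx⟩, hxp⟩
    have hsE := (fR x hxp).1 hxR
    rcases hx with hx | hx
    · exact hx ((fU _ ((hs₃' x).trans hxp)).2 (by rw [hs₃]; exact hsE))
    · refine hx ((fU _ ((ht₃' x).trans hxp)).2 ?_)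
      rw [ht₃]
      exact hF2 ▸ ⟨_, hsE, rfl⟩
  have hBimg : UniversallyClosed G.j → IsClosed (pullback.snd G.pR g₃ '' B) := fun hj => by
    let π : pullback G.pU G.pU ⟶ S := pullback.fst _ _ ≫ G.pU
    have hjπ : G.j ≫ π = G.pR := by
      rw [Grpd.GroupoidScheme.j, ← Category.assoc, pullback.lift_fst, G.t_over]
    let j₃ : pullback G.pR g₃ ⟶ pullback π g₃ :=
      pullback.lift (pullback.fst _ _ ≫ G.j) (pullback.snd _ _) (by rw [Category.assoc, hjπ]; exact pullback.condition)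
    have hj1 : j₃ ≫ pullback.fst π g₃ = pullback.fst _ _ ≫ G.j := pullback.lift_fst _ _ _
    have hj2 : j₃ ≫ pullback.snd π g₃ = pullback.snd _ _ := pullback.lift_snd _ _ _
    have hsq : IsPullback (pullback.fst G.pR g₃) j₃ G.j (pullback.fst π g₃) := by
      have big : IsPullback (pullback.fst G.pR g₃) (j₃ ≫ pullback.snd π g₃) (G.j ≫ π) g₃ := by
        rw [hj2, hjπ]; exact IsPullback.of_hasPullback _ _
      exact IsPullback.of_bot big hj1.symm (IsPullback.of_hasPullback π g₃)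
    haveI : UniversallyClosed j₃ := MorphismProperty.of_isPullback (P := @UniversallyClosed) hsq hj
    let a : pullback π g₃ ⟶ pullback G.pU g₃ :=
      pullback.lift (pullback.fst π g₃ ≫ pullback.fst _ _) (pullback.snd π g₃) (by
        rw [Category.assoc]; exact pullback.condition)
    let b : pullback π g₃ ⟶ pullback G.pU g₃ :=
      pullback.lift (pullback.fst π g₃ ≫ pullback.snd _ _) (pullback.snd π g₃) (by
        rw [Category.assoc, ← pullback.condition (f := G.pU) (g := G.pU)]; exact pullback.condition)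
    have hja : j₃ ≫ a = t₃ := by
      apply pullback.hom_ext
      · rw [bcMap_fst, Category.assoc, pullback.lift_fst, ← Category.assoc, hj1, Category.assoc,
          Grpd.GroupoidScheme.j, pullback.lift_fst]
      · rw [bcMap_snd, Category.assoc, pullback.lift_snd, hj2]
    have hjb : j₃ ≫ b = s₃ := by
      apply pullback.hom_ext
      · rw [bcMap_fst, Category.assoc, pullback.lift_fst, ← Category.assoc, hj1, Category.assoc,
          Grpd.GroupoidScheme.j, pullback.lift_snd]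
      · rw [bcMap_snd, Category.assoc, pullback.lift_snd, hj2]
    let fU' := U₃.ι ≫ pullback.snd G.pU g₃
    haveI : IsFinite fU' := hU₃.fin
    let P := pullback fU' fU'
    have hab : (pullback.fst fU' fU' ≫ U₃.ι ≫ pullback.fst G.pU g₃) ≫ G.pU =
        (pullback.snd fU' fU' ≫ U₃.ι ≫ pullback.fst G.pU g₃) ≫ G.pU := by
      simp only [Category.assoc, pullback.condition (f := G.pU) (g := g₃)]
      have hc := congrArg (· ≫ g₃) (pullback.condition (f := fU') (g := fU'))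
      simpa only [fU', Category.assoc] using hc
    let μ : P ⟶ pullback π g₃ :=
      pullback.lift (pullback.lift _ _ hab) (pullback.fst fU' fU' ≫ fU') (by
        rw [show π = pullback.fst G.pU G.pU ≫ G.pU from rfl, ← Category.assoc, pullback.lift_fst]
        simp only [fU', Category.assoc, pullback.condition (f := G.pU) (g := g₃)])
    have hμ2 : μ ≫ pullback.snd π g₃ = pullback.fst fU' fU' ≫ fU' := pullback.lift_snd _ _ _
    let A' : (pullback π g₃).Opens := a ⁻¹ᵁ U₃ ⊓ b ⁻¹ᵁ U₃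
    let σ1 : (A' : Scheme.{u}) ⟶ U₃ := IsOpenImmersion.lift U₃.ι (A'.ι ≫ a) (by
      rintro _ ⟨x, rfl⟩; rw [Scheme.Opens.range_ι]; exact x.2.1)
    let σ2 : (A' : Scheme.{u}) ⟶ U₃ := IsOpenImmersion.lift U₃.ι (A'.ι ≫ b) (by
      rintro _ ⟨x, rfl⟩; rw [Scheme.Opens.range_ι]; exact x.2.2)
    have hσ : σ1 ≫ fU' = σ2 ≫ fU' := by
      simp only [fU', ← Category.assoc, σ1, σ2, IsOpenImmersion.lift_fac]
      simp only [Category.assoc, a, b, pullback.lift_snd]
    let σ : (A' : Scheme.{u}) ⟶ P := pullback.lift σ1 σ2 hσ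
    have hσμ : σ ≫ μ = A'.ι := by
      apply pullback.hom_ext
      · apply pullback.hom_ext
        · simp only [σ, μ, Category.assoc, pullback.lift_fst, pullback.lift_fst_assoc, σ1,
            IsOpenImmersion.lift_fac_assoc, a]
        · simp only [σ, μ, Category.assoc, pullback.lift_fst, pullback.lift_snd, pullback.lift_snd_assoc, σ2,
            IsOpenImmersion.lift_fac_assoc, b]
      · rw [Category.assoc, hμ2, ← Category.assoc, pullback.lift_fst]
        simp only [fU', ← Category.assoc, σ1, IsOpenImmersion.lift_fac]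
        simp only [Category.assoc, a, pullback.lift_snd]
    have hC : IsClosed (j₃ '' B) := j₃.isClosedMap _ hB
    have e : pullback.snd G.pR g₃ '' B = (pullback.fst fU' fU' ≫ fU') '' (μ ⁻¹' (j₃ '' B)) := by
      ext x
      constructor
      · rintro ⟨r, hr, rfl⟩
        have hmem : j₃ r ∈ A' := by
          refine ⟨?_, ?_⟩
          · show a (j₃ r) ∈ U₃
            rw [← Scheme.Hom.comp_apply, hja]; exact hr.1.2
          · show b (j₃ r) ∈ U₃
            rw [← Scheme.Hom.comp_apply, hjb]; exact hr.1.1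
        have hval : μ (σ ⟨_, hmem⟩) = j₃ r := by
          rw [← Scheme.Hom.comp_apply, hσμ]; rfl
        refine ⟨σ ⟨_, hmem⟩, ⟨r, hr, hval.symm⟩, ?_⟩
        rw [← hμ2, Scheme.Hom.comp_apply, hval, ← Scheme.Hom.comp_apply, hj2]
      · rintro ⟨z, ⟨r, hr, hz⟩, rfl⟩
        refine ⟨r, hr, ?_⟩
        rw [← hμ2, Scheme.Hom.comp_apply, ← hz, ← Scheme.Hom.comp_apply, hj2]
    rw [e]
    haveI : IsFinite (pullback.fst fU' fU' ≫ fU') := inferInstance
    exact (pullback.fst fU' fU' ≫ fU').isClosedMap _ (hC.preimage μ.continuous)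
  have hpB : p₃ ∉ pullback.snd G.pR g₃ '' B := by
    rintro ⟨x, ⟨⟨hxs, -⟩, hxR⟩, hxp⟩
    exact hxR ((fR x hxp).2 (by rw [← hs₃]; exact (fU _ ((hs₃' x).trans hxp)).1 hxs))
  classical
  let bad : Set ↥(pullback g₁ g₂) :=
    pullback.snd G.pR g₃ '' A ∪ (if UniversallyClosed G.j then pullback.snd G.pR g₃ '' B else ∅)
  have hbad : IsClosed bad := hAimg.union (by split_ifs with h; exacts [hBimg h, isClosed_empty])
  have hp₃ : p₃ ∉ bad := by
    rintro (h | h)
    · exact hpA h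
    · split_ifs at h
      exacts [hpB h, h.elim]
  let O : (pullback g₁ g₂).Opens := ⟨badᶜ, hbad.isOpen_compl⟩
  let g : (O : Scheme.{u}) ⟶ S := O.ι ≫ g₃
  let p' : (O : Scheme.{u}) := ⟨p₃, hp₃⟩
  have hg : Hens2.IsEtaleNbhd g p' p := nbhd_restrict hg₃ O hp₃
  let nU := refineMap G.pU (rfl : O.ι ≫ g₃ = g)
  let nR := refineMap G.pR (rfl : O.ι ≫ g₃ = g)
  have hU : IsPart G.pU g p' (WU : Set G.U) (nU ⁻¹ᵁ U₃) := hU₃.refine rfl rfl
  have hR : IsPart G.pR g p' (WR : Set G.R) (nR ⁻¹ᵁ R₃) := hR₃.refine rfl rfl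
  let s' := bcMap G g G.s G.s_over
  let t' := bcMap G g G.t G.t_over
  have hns : ∀ x, nU (s' x) = s₃ (nR x) := fun x => by
    rw [← Scheme.Hom.comp_apply, bcMap_refine, Scheme.Hom.comp_apply]
  have hnt : ∀ x, nU (t' x) = t₃ (nR x) := fun x => by
    rw [← Scheme.Hom.comp_apply, bcMap_refine, Scheme.Hom.comp_apply]
  have hnO : ∀ x, pullback.snd G.pR g₃ (nR x) ∉ bad := fun x => by
    rw [← Scheme.Hom.comp_apply, refineMap_snd, Scheme.Hom.comp_apply]
    exact (pullback.snd G.pR g x).2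
  have hgp' : g p' = p := hg.base_eq
  have bU := fibre_bij G.pU (pullback.snd G.pU g) g (pullback.fst G.pU g) (IsPullback.of_hasPullback _ _) p' hg.residue_bijective
  have bR := fibre_bij G.pR (pullback.snd G.pR g) g (pullback.fst G.pR g) (IsPullback.of_hasPullback _ _) p' hg.residue_bijective
  have hxU : ∀ x, pullback.snd G.pU g x = p' → (x ∈ nU ⁻¹ᵁ U₃ ↔ pullback.fst G.pU g x ∈ E) := fun x hx => by
    have hxp : G.pU (pullback.fst G.pU g x) = p := by
      rw [← Scheme.Hom.comp_apply, pullback.condition, Scheme.Hom.comp_apply, hx, hgp']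
    rw [hU.fibre x hx, ← hWU]
    exact ⟨fun h => ⟨h, hxp⟩, fun h => h.1⟩
  have hxR : ∀ x, pullback.snd G.pR g x = p' → (x ∈ nR ⁻¹ᵁ R₃ ↔ G.s (pullback.fst G.pR g x) ∈ E) := fun x hx => by
    have hxp : G.pR (pullback.fst G.pR g x) = p := by
      rw [← Scheme.Hom.comp_apply, pullback.condition, Scheme.Hom.comp_apply, hx, hgp']
    rw [hR.fibre x hx]
    have h := Set.ext_iff.1 hWR (pullback.fst G.pR g x)
    exact ⟨fun h' => h.1 ⟨h', hxp⟩, fun h' => (h.2 h').1⟩
  have hs1 : ∀ x, pullback.fst G.pU g (s' x) = G.s (pullback.fst G.pR g x) := fun x => by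
    rw [← Scheme.Hom.comp_apply, bcMap_fst, Scheme.Hom.comp_apply]
  have ht1 : ∀ x, pullback.fst G.pU g (t' x) = G.t (pullback.fst G.pR g x) := fun x => by
    rw [← Scheme.Hom.comp_apply, bcMap_fst, Scheme.Hom.comp_apply]
  have hs2 : ∀ x, pullback.snd G.pU g (s' x) = pullback.snd G.pR g x := fun x => by
    rw [← Scheme.Hom.comp_apply, bcMap_snd]
  have ht2 : ∀ x, pullback.snd G.pU g (t' x) = pullback.snd G.pR g x := fun x => by
    rw [← Scheme.Hom.comp_apply, bcMap_snd]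
  refine ⟨(O : Scheme.{u}), g, p', hg, nU ⁻¹ᵁ U₃, nR ⁻¹ᵁ R₃, hU.closed, hR.closed, ?_, ?_, ?_, hU.fin, hR.fin,
    ?_, ?_, ?_⟩
  · obtain ⟨u', hu1, hu2⟩ := Scheme.Pullback.exists_preimage_pullback (f := G.pU) (g := g) u p' (hu.trans hgp'.symm)
    exact ⟨u', (hxU u' hu2).2 (by rw [hu1]; exact hF3), hu1, hu2⟩
  · intro u' hu'U hu1 hu2
    ext x
    constructor
    · rintro ⟨hxmem, hxp⟩
      obtain ⟨r, hr, hrx⟩ := (hxU x hxp).1 hxmem
      have hrp : r ∈ G.pR ⁻¹' {g p'} := by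
        show G.pR r = g p'
        rw [hsp, show G.s r = u from hr, hu, hgp']
      obtain ⟨r', hr'p, hr'⟩ := bR.surjOn hrp
      refine ⟨r', ?_, bU.injOn ((ht2 r').trans hr'p) hxp ?_⟩
      · show s' r' = u'
        refine bU.injOn ((hs2 r').trans hr'p) hu2 ?_
        rw [hs1, hr', hu1]; exact hr
      · rw [ht1, hr', hrx]
    · rintro ⟨r', hr', rfl⟩
      have hs'r : s' r' = u' := hr'
      have hp : pullback.snd G.pR g r' = p' := by rw [← hs2, hs'r, hu2]
      refine ⟨(hxU _ ((ht2 r').trans hp)).2 ?_, (ht2 r').trans hp⟩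
      rw [ht1]
      exact ⟨_, by show G.s (pullback.fst G.pR g r') = u; rw [← hs1, hs'r, hu1], rfl⟩
  · ext r
    show (r ∈ nR ⁻¹ᵁ R₃ ∧ pullback.snd G.pR g r = p') ↔ (s' r ∈ nU ⁻¹ᵁ U₃ ∧ pullback.snd G.pU g (s' r) = p')
    rw [hs2]
    constructor <;> rintro ⟨h1, h2⟩
    · exact ⟨(hxU _ ((hs2 r).trans h2)).2 (by rw [hs1]; exact (hxR r h2).1 h1), h2⟩
    · exact ⟨(hxR r h2).2 (by rw [← hs1]; exact (hxU _ ((hs2 r).trans h2)).1 h1), h2⟩
  · rintro _ ⟨r, hr, rfl⟩
    show nU (s' r) ∈ U₃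
    rw [hns]
    by_contra h
    exact hnO r (Or.inl ⟨nR r, ⟨hr, Or.inl h⟩, rfl⟩)
  · rintro _ ⟨r, hr, rfl⟩
    show nU (t' r) ∈ U₃
    rw [hnt]
    by_contra h
    exact hnO r (Or.inl ⟨nR r, ⟨hr, Or.inr h⟩, rfl⟩)
  · intro hj
    ext r
    show nR r ∈ R₃ ↔ (nU (s' r) ∈ U₃ ∧ nU (t' r) ∈ U₃)
    rw [hns, hnt]
    constructor
    · intro hr
      constructor <;> by_contra h
      · exact hnO r (Or.inl ⟨nR r, ⟨hr, Or.inl h⟩, rfl⟩)
      · exact hnO r (Or.inl ⟨nR r, ⟨hr, Or.inr h⟩, rfl⟩)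
    · intro h
      by_contra hr
      exact hnO r (Or.inr (by rw [if_pos hj]; exact ⟨nR r, ⟨h, hr⟩, rfl⟩))

end GrpdNbhd
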